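import Groth.Agent.GeomConnPull.Basic
import Groth.Agent.GeomIrred.Scheme
import Mathlib.AlgebraicGeometry.Morphisms.Flat

/-!
# Extensions of a separably closed field
-/

set_option autoImplicit false
set_option linter.style.haveILetI false
set_option backward.isDefEq.respectTransparency false
set_option backward.isDefEq.respectTransparency.types false

universe u

open CategoryTheory CategoryTheory.Limits AlgebraicGeometry Opposite

noncomputable section

namespace Groth.Agent.GeomConnPull

theorem isQuotientMap_fst {X' X : Scheme.{u}} (π : X' ⟶ X) [Flat π] [QuasiCompact π] [Surjective π] (U : X.Etale) :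
    Topology.IsQuotientMap (pullback.fst U.hom π) := by
  haveI : Flat (pullback.fst U.hom π) := MorphismProperty.pullback_fst _ _ ‹Flat π›
  haveI : QuasiCompact (pullback.fst U.hom π) := MorphismProperty.pullback_fst _ _ ‹QuasiCompact π›
  haveI : Surjective (pullback.fst U.hom π) := MorphismProperty.pullback_fst _ _ ‹Surjective π›
  exact Flat.isQuotientMap_of_surjective _

/-- The unit is an isomorphism for flat quasi-compact morphisms with geometrically connected fibres. -/
theorem isIso_unit_of_flat {X' X : Scheme.{u}} (π : X' ⟶ X) [Flat π] [QuasiCompact π] [GeometricallyConnected π]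
    (F : EtCoh.Ab X) : IsIso ((EtCoh.pullPushAdj π).unit.app F) :=
  isIso_unit π F (isQuotientMap_fst π)

variable {k K : Type u} [Field k] [IsSepClosed k] [Field K] (a : k →+* K)

theorem geometricallyConnected_field : GeometricallyConnected (Spec.map (CommRingCat.ofHom a)) := by
  haveI : Subsingleton ↥(Spec (CommRingCat.of K)) := inferInstanceAs (Subsingleton (PrimeSpectrum K))
  haveI : ConnectedSpace ↥(Spec (CommRingCat.of K)) := ⟨⟨default⟩⟩
  exact GeomIrred.geometricallyConnected_of_connectedSpace _

theorem flat_field : Flat (Spec.map (CommRingCat.ofHom a)) := by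
  rw [HasRingHomProperty.Spec_iff (P := @Flat)]
  letI := a.toAlgebra
  exact RingHom.flat_algebraMap_iff.2 inferInstance

/-- Over a separably closed field, the unit of base change to an extension field is an isomorphism. -/
theorem isIso_unit_fieldExt {P X : Scheme.{u}} {π : P ⟶ X} {q : P ⟶ Spec (CommRingCat.of K)}
    {s : X ⟶ Spec (CommRingCat.of k)} (sq : IsPullback π q s (Spec.map (CommRingCat.ofHom a))) (F : EtCoh.Ab X) :
    IsIso ((EtCoh.pullPushAdj π).unit.app F) := by
  haveI := geometricallyConnected_field a
  haveI := flat_field a
  haveI : Flat π := MorphismProperty.of_isPullback sq.flip ‹Flat (Spec.map (CommRingCat.ofHom a))›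
  haveI : QuasiCompact π := MorphismProperty.of_isPullback sq.flip
    (inferInstance : QuasiCompact (Spec.map (CommRingCat.ofHom a)))
  haveI : GeometricallyConnected π := MorphismProperty.of_isPullback sq.flip
    ‹GeometricallyConnected (Spec.map (CommRingCat.ofHom a))›
  exact isIso_unit_of_flat π F

end Groth.Agent.GeomConnPull
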