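import Groth.Agent.EtPtsLib.GermEq
import Groth.Agent.EtPtsLib.Agree
import Groth.Agent.EtPtsLib.IntegralUI
import Groth.Agent.HensH0.Agree
import Groth.Agent.EtLimLib.Acyclic
import Mathlib.AlgebraicGeometry.Geometrically.Connected

/-!
# Inverse images along morphisms with geometrically connected fibres

For `π : X' → X` with geometrically connected fibres whose étale base changes are quotient maps, the
unit `F → π_* π⁻¹ F` is an isomorphism.
-/

set_option autoImplicit false
set_option linter.unusedSectionVars false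
set_option linter.style.haveILetI false
set_option backward.isDefEq.respectTransparency false
set_option backward.isDefEq.respectTransparency.types false
set_option maxHeartbeats 1000000

universe u

open CategoryTheory CategoryTheory.Limits AlgebraicGeometry Opposite
open Groth.Agent.EtPtsLib

noncomputable section

namespace Groth.Agent.GeomConnPull

variable {X' X : Scheme.{u}} (π : X' ⟶ X) (F : EtCoh.Ab X)

/-- The map of the unit on sections. -/
abbrev unitAt (U : X.Etale) (s : EtCoh.sect F U) :
    EtCoh.sect ((EtCoh.pull π).obj F) ((EtCoh.bc π).obj U) :=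
  ((EtCoh.pullPushAdj π).unit.app F).hom.app (op U) s

theorem unitAt_map {U V : X.Etale} (g : V ⟶ U) (s : EtCoh.sect F U) :
    unitAt π F V (F.obj.map g.op s) =
      ((EtCoh.pull π).obj F).obj.map ((EtCoh.bc π).map g).op (unitAt π F U s) :=
  NatTrans.naturality_apply ((EtCoh.pullPushAdj π).unit.app F).hom g.op s

/-- Where the images of two sections agree, the sections agree. -/
theorem mem_agree_of_unit {U : X.Etale} (s t : EtCoh.sect F U) (y : ((EtCoh.bc π).obj U).left)
    (hy : y ∈ agree ((EtCoh.pull π).obj F).obj (unitAt π F U s) (unitAt π F U t)) :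
    bcFst π U y ∈ agree F.obj s t := by
  obtain ⟨Ω, _, _, ζ, l, rfl⟩ := HensH0.exists_geom (X := X') ((EtCoh.bc π).obj U) y
  let l' : (Scheme.pointSmallEtale (ζ ≫ π)).fiber.obj U := Over.homMk (liftHom ζ l ≫ bcFst π U) (by
    show (liftHom ζ l ≫ bcFst π U) ≫ U.hom = ζ ≫ π
    rw [Category.assoc, bcFst, pullback.condition, ← Category.assoc]
    exact congrArg (· ≫ π) (liftHom_comp ζ l))
  have hl : liftBc π ζ U l' = l := fiber_bc_ext π ζ (liftHom_liftBc_fst π ζ U l')
  have h1 := (germ_unit_eq_iff π ζ F l l' hl s t).1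
    ((germ_eq_iff_mem_agree ζ ((EtCoh.pull π).obj F).obj l _ _).2 hy)
  rw [← Scheme.Hom.comp_apply]
  exact (germ_eq_iff_mem_agree (ζ ≫ π) F.obj l' s t).1 h1

/-- Where two sections agree, their images agree. -/
theorem mem_agree_unit {U : X.Etale} (s t : EtCoh.sect F U) (y : ((EtCoh.bc π).obj U).left)
    (hy : bcFst π U y ∈ agree F.obj s t) :
    y ∈ agree ((EtCoh.pull π).obj F).obj (unitAt π F U s) (unitAt π F U t) := by
  obtain ⟨V, g, v, e, hv⟩ := (EtLimLib.mem_agree_iff _ _ _ _).1 hy
  obtain ⟨z, hz1, -⟩ := Scheme.Pullback.exists_preimage_pullback (f := bcFst π U) (g := g.left) y v hv.symm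
  refine (EtLimLib.mem_agree_iff _ _ _ _).2 ⟨(EtCoh.bc π).obj V, (EtCoh.bc π).map g,
    (EtCoh.isPullback_bc_map π g).isoPullback.inv z, ?_, ?_⟩
  · rw [← unitAt_map, ← unitAt_map, e]
  · refine Eq.trans ?_ hz1
    exact (Scheme.Hom.comp_apply _ _ _).symm.trans
      (EtLimLib.hom_congr_apply (EtCoh.isPullback_bc_map π g).isoPullback_inv_fst z)

/-- Near every point a section of the inverse image comes from the base. -/
theorem exists_local {U : X.Etale} (t : EtCoh.sect ((EtCoh.pull π).obj F) ((EtCoh.bc π).obj U))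
    (y : ((EtCoh.bc π).obj U).left) :
    ∃ (V : X.Etale) (g : V ⟶ U) (s : EtCoh.sect F V) (z : ((EtCoh.bc π).obj V).left),
      ((EtCoh.bc π).map g).left z = y ∧
      z ∈ agree ((EtCoh.pull π).obj F).obj (unitAt π F V s)
        (((EtCoh.pull π).obj F).obj.map ((EtCoh.bc π).map g).op t) := by
  obtain ⟨Ω, _, _, ζ, l, rfl⟩ := HensH0.exists_geom (X := X') ((EtCoh.bc π).obj U) y
  obtain ⟨a, ha⟩ := (bijective_unitStalk π ζ F).2
    ((Scheme.pointSmallEtale ζ).toPresheafFiber _ l ((EtCoh.pull π).obj F).obj t)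
  obtain ⟨W, m, s₀, rfl⟩ := (Scheme.pointSmallEtale (ζ ≫ π)).toPresheafFiber_jointly_surjective (P := F.obj) a
  let l' : (Scheme.pointSmallEtale (ζ ≫ π)).fiber.obj U := Over.homMk (liftHom ζ l ≫ bcFst π U) (by
    show (liftHom ζ l ≫ bcFst π U) ≫ U.hom = ζ ≫ π
    rw [Category.assoc, bcFst, pullback.condition, ← Category.assoc]
    exact congrArg (· ≫ π) (liftHom_comp ζ l))
  haveI := (Scheme.pointSmallEtale (ζ ≫ π)).isCofiltered
  obtain ⟨⟨V, n⟩, a₁, a₂, -⟩ := IsCofilteredOrEmpty.cone_objs
    (Functor.elementsMk (Scheme.pointSmallEtale (ζ ≫ π)).fiber U l')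
    (Functor.elementsMk (Scheme.pointSmallEtale (ζ ≫ π)).fiber W m)
  let g : V ⟶ U := a₁.1
  let g₂ : V ⟶ W := a₂.1
  let s := F.obj.map g₂.op s₀
  have hn₁ : (Scheme.pointSmallEtale (ζ ≫ π)).fiber.map g n = l' := a₁.2
  have hn₂ : (Scheme.pointSmallEtale (ζ ≫ π)).fiber.map g₂ n = m := a₂.2
  let z := liftBc π ζ V n
  have hz : (Scheme.pointSmallEtale ζ).fiber.map ((EtCoh.bc π).map g) z = l := by
    rw [liftBc_map, hn₁]
    exact fiber_bc_ext π ζ (liftHom_liftBc_fst π ζ U l')
  refine ⟨V, g, s, liftHom ζ z default, ?_, (germ_eq_iff_mem_agree ζ ((EtCoh.pull π).obj F).obj z _ _).1 ?_⟩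
  · rw [← hz]
    exact (Scheme.Hom.comp_apply _ _ _).symm
  · have h1 : (Scheme.pointSmallEtale ζ).toPresheafFiber _ z ((EtCoh.pull π).obj F).obj (unitAt π F V s) =
        unitStalk π ζ F ((Scheme.pointSmallEtale (ζ ≫ π)).toPresheafFiber V n F.obj s) :=
      congr($(toPresheafFiber_unitStalk π ζ F V n) s).symm
    have h2 : (Scheme.pointSmallEtale (ζ ≫ π)).toPresheafFiber V n F.obj s =
        (Scheme.pointSmallEtale (ζ ≫ π)).toPresheafFiber W m F.obj s₀ :=
      ((Scheme.pointSmallEtale (ζ ≫ π)).toPresheafFiber_w_apply g₂ n F.obj s₀).trans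
        (congrArg (fun q => (Scheme.pointSmallEtale (ζ ≫ π)).toPresheafFiber W q F.obj s₀) hn₂)
    refine h1.trans ((congrArg (unitStalk π ζ F) h2).trans (ha.trans ?_))
    exact ((Scheme.pointSmallEtale ζ).toPresheafFiber_w_apply ((EtCoh.bc π).map g) z ((EtCoh.pull π).obj F).obj t).trans
      (congrArg (fun q => (Scheme.pointSmallEtale ζ).toPresheafFiber _ q ((EtCoh.pull π).obj F).obj t) hz) |>.symm

variable [GeometricallyConnected π]

/-- The locus where a section of the inverse image equals a section of the base is a union of fibres. -/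
theorem mem_agree_of_fibre {V : X.Etale} (s : EtCoh.sect F V)
    (t : EtCoh.sect ((EtCoh.pull π).obj F) ((EtCoh.bc π).obj V)) {y₁ y₂ : ((EtCoh.bc π).obj V).left}
    (h : bcFst π V y₁ = bcFst π V y₂) (h₁ : y₁ ∈ agree ((EtCoh.pull π).obj F).obj (unitAt π F V s) t) :
    y₂ ∈ agree ((EtCoh.pull π).obj F).obj (unitAt π F V s) t := by
  let v := bcFst π V y₁
  let K := AlgebraicClosure (V.left.residueField v)
  let v' : Spec (CommRingCat.of K) ⟶ V.left := EtPtsLib.geomPtAlg v
  have hv' : v' default = v := EtPtsLib.geomPtAlg_default v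
  let p : ((EtCoh.bc π).obj V).left ⟶ V.left := bcFst π V
  let P := pullback p v'
  let A := agree ((EtCoh.pull π).obj F).obj (unitAt π F V s) t
  let B : Set P := pullback.fst p v' ⁻¹' A
  haveI : GeometricallyConnected p := MorphismProperty.pullback_fst (P := @GeometricallyConnected) _ _ ‹GeometricallyConnected π›
  haveI : GeometricallyConnected (pullback.snd p v') :=
    MorphismProperty.pullback_snd (P := @GeometricallyConnected) _ _ ‹GeometricallyConnected p›
  haveI : Subsingleton ↥(Spec (CommRingCat.of K)) := inferInstanceAs (Subsingleton (PrimeSpectrum K))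
  haveI : Nonempty ↥(Spec (CommRingCat.of K)) := ⟨default⟩
  haveI : ConnectedSpace P := GeometricallyConnected.connectedSpace_of_subsingleton (f := pullback.snd p v')
  have hB : IsClopen B := by
    refine ⟨⟨isOpen_iff_forall_mem_open.2 fun q hq => ?_⟩, (isOpen_agree _ _ _).preimage (Scheme.Hom.continuous _)⟩
    obtain ⟨V₂, g, s₂, z, hz, hzs⟩ := exists_local π F t (pullback.fst p v' q)
    let E := pullback g.left v'
    let e₂ : E ⟶ Spec (CommRingCat.of K) := pullback.snd g.left v'
    haveI : AlgebraicGeometry.Etale g.left := etale_left g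
    haveI : AlgebraicGeometry.Etale e₂ := inferInstance
    let Z := pullback ((EtCoh.bc π).map g).left (pullback.fst p v')
    obtain ⟨w, hw₁, hw₂⟩ := Scheme.Pullback.exists_preimage_pullback
      (f := ((EtCoh.bc π).map g).left) (g := pullback.fst p v') z q hz
    let toE : Z ⟶ E := pullback.lift (pullback.fst _ _ ≫ bcFst π V₂) (pullback.snd _ _ ≫ pullback.snd p v') (by
      rw [Category.assoc, ← EtPtsLib.bcFst_map, ← Category.assoc, pullback.condition, Category.assoc,
        pullback.condition, ← Category.assoc])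
    obtain ⟨σ, hσ, hσw⟩ := Scheme.exists_fac_of_etale_of_isSepClosed e₂ (𝟙 _) (toE w) (Subsingleton.elim _ _)
    let φ : P ⟶ ((EtCoh.bc π).obj V₂).left :=
      (EtCoh.isPullback_bc_map π g).lift (pullback.fst p v') (pullback.snd p v' ≫ σ ≫ pullback.fst g.left v') (by
        rw [Category.assoc, Category.assoc, pullback.condition (f := g.left)]
        refine pullback.condition.trans ?_
        rw [reassoc_of% hσ])
    have hφg : φ ≫ ((EtCoh.bc π).map g).left = pullback.fst p v' := IsPullback.lift_fst _ _ _ _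
    have hφp : φ ≫ bcFst π V₂ = pullback.snd p v' ≫ σ ≫ pullback.fst g.left v' := IsPullback.lift_snd _ _ _ _
    -- `φ q = z`
    let σZ : P ⟶ Z := pullback.lift φ (𝟙 P) (hφg.trans (Category.id_comp _).symm)
    have hsq : IsPullback σZ (pullback.snd p v') toE σ := by
      refine ⟨⟨?_⟩, ⟨PullbackCone.IsLimit.mk _ (fun c => c.fst ≫ pullback.snd _ _) (fun c => ?_) (fun c => ?_)
        (fun c m hm₁ _ => ?_)⟩⟩
      · apply pullback.hom_ext
        · simp only [Category.assoc, toE, pullback.lift_fst]
          rw [pullback.lift_fst_assoc, hφp]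
        · simp only [Category.assoc, toE, pullback.lift_snd]
          rw [pullback.lift_snd_assoc, show σ ≫ pullback.snd g.left v' = 𝟙 _ from hσ, Category.comp_id]
          exact Category.id_comp _
      · have hc := c.condition
        have h1 : c.fst ≫ pullback.snd _ _ ≫ pullback.snd p v' = c.snd := by
          have := congrArg (· ≫ pullback.snd g.left v') hc
          simp only [Category.assoc, toE, pullback.lift_snd] at this
          rw [show σ ≫ pullback.snd g.left v' = 𝟙 _ from hσ, Category.comp_id] at this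
          exact this
        apply pullback.hom_ext
        · rw [Category.assoc, pullback.lift_fst]
          refine (EtCoh.isPullback_bc_map π g).hom_ext ?_ ?_
          · rw [Category.assoc, hφg, Category.assoc, Category.assoc]
            exact congrArg (c.fst ≫ ·) pullback.condition.symm
          · rw [Category.assoc]
            refine (congrArg (_ ≫ ·) hφp).trans ?_
            rw [← Category.assoc, Category.assoc c.fst, h1]
            have := congrArg (· ≫ pullback.fst g.left v') hc
            simp only [Category.assoc, toE, pullback.lift_fst] at this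
            rw [← this]
            exact (Category.assoc _ _ _).symm
        · rw [Category.assoc, pullback.lift_snd, Category.comp_id]
      · have := congrArg (· ≫ pullback.snd g.left v') c.condition
        simp only [Category.assoc, toE, pullback.lift_snd] at this
        rw [show σ ≫ pullback.snd g.left v' = 𝟙 _ from hσ, Category.comp_id] at this
        rw [Category.assoc]
        exact this
      · rw [← hm₁, Category.assoc, pullback.lift_snd]
        exact (Category.comp_id _).symm
    obtain ⟨m, hm₁, -⟩ := Scheme.Pullback.exists_preimage_pullback (f := toE) (g := σ) w default hσw.symm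
    obtain ⟨q₁, hq₁⟩ : ∃ q₁, σZ q₁ = w := ⟨hsq.isoPullback.inv m, by
      rw [← Scheme.Hom.comp_apply, hsq.isoPullback_inv_fst]; exact hm₁⟩
    have hq₁' : q₁ = q := by
      rw [← hw₂, ← hq₁, ← Scheme.Hom.comp_apply, pullback.lift_snd]
      rfl
    have hφq : φ q = z := by
      rw [← hw₁, ← hq₁, hq₁', ← Scheme.Hom.comp_apply, pullback.lift_fst]
    refine ⟨φ ⁻¹' agree ((EtCoh.pull π).obj F).obj (unitAt π F V₂ s₂)
        (((EtCoh.pull π).obj F).obj.map ((EtCoh.bc π).map g).op t), fun r hr hrB => hq ?_,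
      (isOpen_agree _ _ _).preimage (Scheme.Hom.continuous _), by rw [Set.mem_preimage, hφq]; exact hzs⟩
    -- if `r` were in `B`, then `q` would be
    let s₁ := F.obj.map g.op s
    have key : ∀ r' : P, pullback.fst p v' r' ∈ A ↔
        φ r' ∈ agree ((EtCoh.pull π).obj F).obj (unitAt π F V₂ s₁)
          (((EtCoh.pull π).obj F).obj.map ((EtCoh.bc π).map g).op t) := fun r' => by
      rw [unitAt_map, HensH0.mem_agree_map_iff, ← Scheme.Hom.comp_apply, hφg]
    have hw : ∀ r' : P, bcFst π V₂ (φ r') = (σ ≫ pullback.fst g.left v') default := fun r' => by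
      rw [← Scheme.Hom.comp_apply, hφp, Scheme.Hom.comp_apply]
      exact congrArg _ (Subsingleton.elim _ _)
    have hs : (σ ≫ pullback.fst g.left v') default ∈ agree F.obj s₁ s₂ := by
      rw [← hw r]
      exact mem_agree_of_unit π F s₁ s₂ _ (HensH0.agree_trans _ ((key r).1 hrB) (HensH0.agree_symm _ hr))
    refine (key q).2 (HensH0.agree_trans _ (mem_agree_unit π F s₁ s₂ _ ?_) ?_)
    · rw [hw q]; exact hs
    · rw [hφq]; exact hzs
  obtain ⟨q₁, hq₁, -⟩ := Scheme.Pullback.exists_preimage_pullback (f := p) (g := v') y₁ default hv'.symm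
  obtain ⟨q₂, hq₂, -⟩ := Scheme.Pullback.exists_preimage_pullback (f := p) (g := v') y₂ default
    (h.symm.trans hv'.symm)
  have hBu : B = Set.univ := (isClopen_iff.1 hB).resolve_left
    (Set.nonempty_iff_ne_empty.1 ⟨q₁, by rw [Set.mem_preimage, hq₁]; exact h₁⟩)
  have : q₂ ∈ B := hBu ▸ Set.mem_univ q₂
  rwa [Set.mem_preimage, hq₂] at this

variable (hq : ∀ U : X.Etale, Topology.IsQuotientMap (pullback.fst U.hom π))

include hq in
theorem injective_unitAt (U : X.Etale) : Function.Injective (unitAt π F U) := fun s t h =>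
  HensH0.eq_of_agree F fun p => by
    obtain ⟨y, rfl⟩ := (hq U).surjective p
    exact mem_agree_of_unit π F s t y ((EtLimLib.mem_agree_iff _ _ _ _).2
      ⟨_, 𝟙 _, y, congrArg (((EtCoh.pull π).obj F).obj.map (𝟙 ((EtCoh.bc π).obj U)).op) h, rfl⟩)

include hq in
theorem surjective_unitAt (U : X.Etale) : Function.Surjective (unitAt π F U) := fun t => by
  haveI : Mono ((EtCoh.pullPushAdj π).unit.app F) := by
    haveI : ∀ W, Mono (((EtCoh.pullPushAdj π).unit.app F).hom.app W) := fun W =>
      (AddCommGrpCat.mono_iff_injective _).2 (injective_unitAt π F hq W.unop)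
    haveI : Mono ((EtCoh.pullPushAdj π).unit.app F).hom := NatTrans.mono_of_mono_app _
    exact (sheafToPresheaf _ _).mono_of_mono_map (f := (EtCoh.pullPushAdj π).unit.app F) ‹_›
  refine EtLimLib.exists_preimage_of_locally ((EtCoh.pullPushAdj π).unit.app F) t fun u => ?_
  obtain ⟨y, rfl⟩ := (hq U).surjective u
  obtain ⟨V, g, s, z, hz, hzs⟩ := exists_local π F t y
  let t' := ((EtCoh.pull π).obj F).obj.map ((EtCoh.bc π).map g).op t
  let A := agree ((EtCoh.pull π).obj F).obj (unitAt π F V s) t'
  let O := bcFst π V '' A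
  have hO : IsOpen O := by
    rw [← (hq V).isOpen_preimage]
    have : bcFst π V ⁻¹' O = A := Set.Subset.antisymm
      (fun x ⟨a, ha, hax⟩ => mem_agree_of_fibre π F s t' hax ha) (Set.subset_preimage_image _ _)
    show IsOpen (bcFst π V ⁻¹' O)
    rw [this]
    exact isOpen_agree _ _ _
  let W : V.left.Opens := ⟨O, hO⟩
  let i := openIncl V W
  refine ⟨openSub V W, i ≫ g, (⟨bcFst π V z, z, hzs, rfl⟩ : (W : Scheme.{u})), ⟨F.obj.map i.op s, ?_⟩, ?_⟩
  · show unitAt π F _ _ = ((EtCoh.pull π).obj F).obj.map ((EtCoh.bc π).map (i ≫ g)).op t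
    rw [unitAt_map, Functor.map_comp, op_comp, Functor.map_comp_apply]
    refine HensH0.eq_of_agree _ fun x => ?_
    rw [HensH0.mem_agree_map_iff]
    have hx : bcFst π V (((EtCoh.bc π).map i).left x) ∈ O := by
      rw [← Scheme.Hom.comp_apply, EtPtsLib.bcFst_map, Scheme.Hom.comp_apply]
      exact (bcFst π (openSub V W) x).2
    obtain ⟨a, ha, hax⟩ := hx
    exact mem_agree_of_fibre π F s t' hax ha
  · show (i.left ≫ g.left) _ = _
    rw [Scheme.Hom.comp_apply]
    show g.left (bcFst π V z) = _
    rw [← hz, ← Scheme.Hom.comp_apply, ← EtPtsLib.bcFst_map, Scheme.Hom.comp_apply]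
    rfl

include hq in
/-- The unit is an isomorphism. -/
theorem isIso_unit : IsIso ((EtCoh.pullPushAdj π).unit.app F) := by
  haveI : ∀ W, IsIso (((EtCoh.pullPushAdj π).unit.app F).hom.app W) := fun W =>
    (ConcreteCategory.isIso_iff_bijective _).2 ⟨injective_unitAt π F hq W.unop, surjective_unitAt π F hq W.unop⟩
  haveI : IsIso ((EtCoh.pullPushAdj π).unit.app F).hom := NatIso.isIso_of_isIso_app _
  haveI : IsIso ((sheafToPresheaf _ _).map ((EtCoh.pullPushAdj π).unit.app F)) :=
    ‹IsIso ((EtCoh.pullPushAdj π).unit.app F).hom›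
  exact isIso_of_fully_faithful (sheafToPresheaf _ _) ((EtCoh.pullPushAdj π).unit.app F)

end Groth.Agent.GeomConnPull
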